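import Mathlib
import Cfsg.Agent.Lib.CosetTable.Hom
import Cfsg.Agent.Lib.CosetTable.Chain

/-!
Groups generated by a Y₅₅₅ diagram of involutions with the spider relation.

The sixteen nodes are numbered `0` for the centre and `1 + 5 i + j` for node `j`
of arm `i`; `tau` moves each arm to the next one.
-/

namespace Cfsg.Agent.Lib.Y555

open Cfsg.Agent.Lib.CosetTable

/-- the edges of the graph -/
def edgesY : List (Fin 16 × ℕ × Fin 16) :=
  [(0, 3, 1), (0, 3, 6), (0, 3, 11), (1, 3, 2), (2, 3, 3), (3, 3, 4), (4, 3, 5),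
    (6, 3, 7), (7, 3, 8), (8, 3, 9), (9, 3, 10), (11, 3, 12), (12, 3, 13), (13, 3, 14), (14, 3, 15)]

/-- the spider word -/
def spiderWord : List ℕ := (List.replicate 10 [0, 1, 2, 0, 6, 7, 0, 11, 12]).flatten

/-- the spider relation as an expression -/
def spiderE : WExp :=
  .pow (.mul (.mul (.mul (.mul (.mul (.mul (.mul (.mul (.of 0) (.of 1)) (.of 2)) (.of 0)) (.of 6))
    (.of 7)) (.of 0)) (.of 11)) (.of 12)) 10

/-- the Coxeter relators, in both orders of the generators, and the spider relation -/
def relW : List (List ℕ) :=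
  ((List.range 16).flatMap fun x => (List.range 16).map fun y =>
    (List.replicate (Cfsg.Spor.coxLabel edgesY (Fin.ofNat 16 x) (Fin.ofNat 16 y)) [x, y]).flatten) ++
  [spiderWord, Cert.rotate spiderWord 3, Cert.rotate spiderWord 6]

/-- move every arm to the next one -/
def tau (n : ℕ) : ℕ := if n = 0 then 0 else if n ≤ 10 then n + 5 else n - 10

/-- sixteen involutions satisfying the relations of the diagram, and the parity -/
structure Data (T : Type*) [Group T] where
  f : ℕ → T
  rel : ∀ w ∈ relW, eval f w = 1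
  par : T →* Multiplicative (ZMod 2)
  par_f : ∀ n, n < 16 → par (f n) = Multiplicative.ofAdd 1

variable {T : Type*} [Group T]

/-- parity of a word -/
theorem Data.par_eval (D : Data T) : ∀ w : List ℕ, (∀ a ∈ w, a < 16) →
    D.par (eval D.f w) = Multiplicative.ofAdd (w.length : ZMod 2)
  | [], _ => by simp [eval]
  | a :: w, h => by
    simp only [eval, map_mul, D.par_eval w (fun b hb => h b (List.mem_cons_of_mem _ hb)),
      D.par_f a (h a (by simp)), List.length_cons, Nat.cast_add, Nat.cast_one, ofAdd_add]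

theorem Data.invol (D : Data T) {n : ℕ} (hn : n < 16) : D.f n * D.f n = 1 := by
  have h : ∀ n, n < 16 → [n, n] ∈ relW := by decide +kernel
  simpa [eval] using D.rel _ (h n hn)

theorem Data.eval_reverse' (D : Data T) (w : List ℕ) (hw : ∀ a ∈ w, a < 16) :
    eval D.f w.reverse = (eval D.f w)⁻¹ :=
  eval_reverse _ _ fun a ha => D.invol (hw a ha)

/-- commuting nodes -/
theorem Data.comm_f (D : Data T) {x y : ℕ} (hx : x < 16) (hy : y < 16)
    (h : [x, y, x, y] ∈ relW) : Commute (D.f x) (D.f y) := by
  have e := D.rel _ h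
  simp only [eval, one_mul] at e
  have e1 : (D.f y * D.f x)⁻¹ = D.f y * D.f x :=
    inv_eq_of_mul_eq_one_right (by rw [← e]; simp only [mul_assoc])
  rw [mul_inv_rev, inv_eq_of_mul_eq_one_right (D.invol hx),
    inv_eq_of_mul_eq_one_right (D.invol hy)] at e1
  exact e1

theorem commute_eval {f : ℕ → T} {c : T} : ∀ {w : List ℕ}, (∀ a ∈ w, Commute c (f a)) →
    Commute c (eval f w)
  | [], _ => Commute.one_right c
  | a :: _, h => (commute_eval fun b hb => h b (List.mem_cons_of_mem _ hb)).mul_right (h a (by simp))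

/-- a word avoiding the neighbours of a node commutes with it -/
theorem Data.comm_word (D : Data T) {x : ℕ} (hx : x < 16) {w : List ℕ}
    (hw : w.all (fun a => decide (a < 16) && decide ([x, a, x, a] ∈ relW)) = true) :
    Commute (eval D.f w) (D.f x) := by
  refine (commute_eval fun a ha => ?_).symm
  have := List.all_eq_true.mp hw a ha
  simp only [Bool.and_eq_true, decide_eq_true_eq] at this
  exact D.comm_f hx this.1 this.2

/-- two commuting adjacent nodes are equal -/
theorem Data.eq_of_comm (D : Data T) {x y : ℕ} (hx : x < 16) (hy : y < 16)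
    (h : [x, y, x, y, x, y] ∈ relW) (hc : Commute (D.f x) (D.f y)) : D.f x = D.f y := by
  have e := D.rel _ h
  simp only [eval, one_mul] at e
  have sq : (D.f y * D.f x) * (D.f y * D.f x) = 1 := by
    calc (D.f y * D.f x) * (D.f y * D.f x) = D.f y * (D.f x * D.f y) * D.f x := by
          simp only [mul_assoc]
      _ = D.f y * (D.f y * D.f x) * D.f x := by rw [hc.eq]
      _ = (D.f y * D.f y) * (D.f x * D.f x) := by simp only [mul_assoc]
      _ = 1 := by rw [D.invol hx, D.invol hy, one_mul]
  have e2 : D.f y * D.f x = 1 := by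
    calc D.f y * D.f x = D.f y * D.f x * ((D.f y * D.f x) * (D.f y * D.f x)) := by
          rw [sq, mul_one]
      _ = 1 := by rw [← e]; simp only [mul_assoc]
  exact (inv_eq_of_mul_eq_one_right e2).symm.trans (inv_eq_of_mul_eq_one_right (D.invol hy))

/-- equality spreads along a path -/
theorem Data.eq_next (D : Data T) {x y z : ℕ} (hx : x < 16) (hy : y < 16) (hz : z < 16)
    (h1 : [y, z, y, z, y, z] ∈ relW) (h2 : [x, z, x, z] ∈ relW) (e : D.f x = D.f y) :
    D.f y = D.f z :=
  D.eq_of_comm hy hz h1 (e ▸ D.comm_f hx hz h2)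

/-- two commuting neighbours on the first arm make all nodes equal -/
theorem Data.collapse (D : Data T)
    (h : Commute (D.f 0) (D.f 1) ∨ Commute (D.f 5) (D.f 4)) :
    ∀ n, n < 16 → D.f n = D.f 0 := by
  have m3 : ∀ p ∈ [(1, 2), (2, 3), (3, 4), (4, 5), (5, 4), (4, 3), (3, 2), (2, 1), (1, 0), (0, 6),
      (0, 11), (6, 7), (7, 8), (8, 9), (9, 10), (11, 12), (12, 13), (13, 14), (14, 15), (0, 1)],
      [p.1, p.2, p.1, p.2, p.1, p.2] ∈ relW := by decide +kernel
  have m2 : ∀ p ∈ [(0, 2), (1, 3), (2, 4), (3, 5), (5, 3), (4, 2), (3, 1), (2, 0), (1, 6), (1, 11),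
      (0, 7), (6, 8), (7, 9), (8, 10), (0, 12), (11, 13), (12, 14), (13, 15)],
      [p.1, p.2, p.1, p.2] ∈ relW := by decide +kernel
  have nx : ∀ x y z : ℕ, (y, z) ∈ [(1, 2), (2, 3), (3, 4), (4, 5), (5, 4), (4, 3), (3, 2), (2, 1),
      (1, 0), (0, 6), (0, 11), (6, 7), (7, 8), (8, 9), (9, 10), (11, 12), (12, 13), (13, 14),
      (14, 15), (0, 1)] → (x, z) ∈ [(0, 2), (1, 3), (2, 4), (3, 5), (5, 3), (4, 2), (3, 1), (2, 0),
      (1, 6), (1, 11), (0, 7), (6, 8), (7, 9), (8, 10), (0, 12), (11, 13), (12, 14), (13, 15)] →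
      x < 16 → y < 16 → z < 16 → D.f x = D.f y → D.f y = D.f z :=
    fun x y z h1 h2 hx hy hz e => D.eq_next hx hy hz (m3 _ h1) (m2 _ h2) e
  have e01 : D.f 0 = D.f 1 := by
    rcases h with h | h
    · exact D.eq_of_comm (by norm_num) (by norm_num) (m3 (0, 1) (by decide)) h
    · have a := D.eq_of_comm (by norm_num) (by norm_num) (m3 (5, 4) (by decide)) h
      have b := nx 5 4 3 (by decide) (by decide) (by norm_num) (by norm_num) (by norm_num) a
      have c := nx 4 3 2 (by decide) (by decide) (by norm_num) (by norm_num) (by norm_num) b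
      have d := nx 3 2 1 (by decide) (by decide) (by norm_num) (by norm_num) (by norm_num) c
      exact (nx 2 1 0 (by decide) (by decide) (by norm_num) (by norm_num) (by norm_num) d).symm
  have e12 := nx 0 1 2 (by decide) (by decide) (by norm_num) (by norm_num) (by norm_num) e01
  have e23 := nx 1 2 3 (by decide) (by decide) (by norm_num) (by norm_num) (by norm_num) e12
  have e34 := nx 2 3 4 (by decide) (by decide) (by norm_num) (by norm_num) (by norm_num) e23
  have e45 := nx 3 4 5 (by decide) (by decide) (by norm_num) (by norm_num) (by norm_num) e34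
  have e06 := nx 1 0 6 (by decide) (by decide) (by norm_num) (by norm_num) (by norm_num) e01.symm
  have e67 := nx 0 6 7 (by decide) (by decide) (by norm_num) (by norm_num) (by norm_num) e06
  have e78 := nx 6 7 8 (by decide) (by decide) (by norm_num) (by norm_num) (by norm_num) e67
  have e89 := nx 7 8 9 (by decide) (by decide) (by norm_num) (by norm_num) (by norm_num) e78
  have e910 := nx 8 9 10 (by decide) (by decide) (by norm_num) (by norm_num) (by norm_num) e89
  have e011 := nx 1 0 11 (by decide) (by decide) (by norm_num) (by norm_num) (by norm_num) e01.symm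
  have e1112 := nx 0 11 12 (by decide) (by decide) (by norm_num) (by norm_num) (by norm_num) e011
  have e1213 := nx 11 12 13 (by decide) (by decide) (by norm_num) (by norm_num) (by norm_num) e1112
  have e1314 := nx 12 13 14 (by decide) (by decide) (by norm_num) (by norm_num) (by norm_num) e1213
  have e1415 := nx 13 14 15 (by decide) (by decide) (by norm_num) (by norm_num) (by norm_num) e1314
  intro n hn
  interval_cases n <;> simp only [← e01, ← e12, ← e23, ← e34, ← e45, ← e06, ← e67, ← e78, ← e89,
    ← e910, ← e011, ← e1112, ← e1213, ← e1314, ← e1415]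

/-- a word in equal involutions -/
theorem Data.eval_of_all_eq (D : Data T) (h : ∀ n, n < 16 → D.f n = D.f 0) :
    ∀ w : List ℕ, (∀ a ∈ w, a < 16) → eval D.f w = if Even w.length then 1 else D.f 0
  | [], _ => by simp [eval]
  | a :: w, hl => by
    rw [eval, D.eval_of_all_eq h w (fun b hb => hl b (List.mem_cons_of_mem _ hb)),
      h a (hl a (by simp))]
    by_cases he : Even w.length
    · simp [he, Nat.even_add_one]
    · simp [he, Nat.even_add_one, D.invol]

/-- move every arm to the next one -/
def Data.shift (D : Data T) : Data T where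
  f n := D.f (tau n)
  rel w hw := by
    have h : ∀ w ∈ relW, w.map tau ∈ relW := by decide +kernel
    rw [eval_map]
    exact D.rel _ (h w hw)
  par := D.par
  par_f n hn := D.par_f _ (by unfold tau; split_ifs <;> omega)

/-- the same group with the nodes as generators -/
theorem Data.model_of (D : Data T) (C : Cert) (σ : List ℕ) (hk : C.k = σ.length)
    (hw : C.wordsOK = true) (hσ : ∀ a ∈ σ, a < 16) :
    (∀ g, g < C.k → D.f (σ.getD g 0) * D.f (σ.getD g 0) = 1) ∧
      (∀ g, g < C.k → σ.getD g 0 ∈ σ) := by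
  have h : ∀ g, g < C.k → σ.getD g 0 ∈ σ := fun g hg => by
    rw [List.getD_eq_getElem _ _ (hk ▸ hg)]; exact List.getElem_mem _
  exact ⟨fun g hg => D.invol (hσ _ (h g hg)), h⟩

/-- the subgroup generated by some nodes -/
abbrev Data.gen (D : Data T) (σ : List ℕ) : Subgroup T := wordSubgroup D.f (σ.map fun a => [a])

theorem Data.mem_gen (D : Data T) {σ : List ℕ} {a : ℕ} (h : a ∈ σ) : D.f a ∈ D.gen σ :=
  Subgroup.subset_closure ⟨[a], List.mem_map.mpr ⟨a, h, rfl⟩, by simp [eval]⟩

theorem Data.commute_gen (D : Data T) {σ : List ℕ} {c : T} (h : ∀ a ∈ σ, Commute c (D.f a))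
    {x : T} (hx : x ∈ D.gen σ) : Commute c x := by
  induction hx using Subgroup.closure_induction with
  | mem y hy =>
    obtain ⟨w, hw, rfl⟩ := hy
    obtain ⟨a, ha, rfl⟩ := List.mem_map.mp hw
    simpa [eval] using h a ha
  | one => exact Commute.one_right c
  | mul y z _ _ hy hz => exact hy.mul_right hz
  | inv y _ hy => exact hy.inv_right

/-- a table with one coset: the nodes `σ` lie in the group generated by the listed subgroup words -/
theorem Data.mem_of_collapse (D : Data T) {C : Cert} {A : Table} {N : ℕ} (σ : List ℕ)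
    (hk : C.k = σ.length) (hw : C.wordsOK = true) (hσ : ∀ a ∈ σ, a < 16) (K : Cover C A N)
    (h1 : A.n = 1) (hrel : ∀ w ∈ C.rels, eval D.f (w.map fun a => σ.getD a 0) = 1)
    {S : Subgroup T} (hS : ∀ w ∈ C.subs, eval D.f (w.map fun a => σ.getD a 0) ∈ S)
    {a : ℕ} (ha : a ∈ σ) : D.f a ∈ S := by
  obtain ⟨hinv, hmem⟩ := D.model_of C σ hk hw hσ
  let R := D.gen σ
  let f' : ℕ → R := fun g => if hg : g < C.k then ⟨_, D.mem_gen (hmem g hg)⟩ else 1
  have hf' : ∀ g, g < C.k → (f' g : T) = D.f (σ.getD g 0) := fun g hg => by simp [f', hg]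
  have hev : ∀ w : List ℕ, (∀ b ∈ w, b < C.k) →
      ((eval f' w : R) : T) = eval D.f (w.map fun b => σ.getD b 0) := by
    intro w
    induction w with
    | nil => intro _; simp [eval]
    | cons b w ih =>
      intro hl
      simp only [eval, List.map_cons, Subgroup.coe_mul,
        ih (fun c hc => hl c (List.mem_cons_of_mem _ hc)), hf' b (hl b (by simp))]
  have hw' := hw
  simp only [Cert.wordsOK, Bool.and_eq_true, List.all_eq_true, blt_iff] at hw'
  have M' : Model f' C := by
    refine ⟨hw, fun g hg => Subtype.ext ?_, fun w hm => Subtype.ext ?_, ?_⟩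
    · rw [Subgroup.coe_mul, hf' g hg, hinv g hg]; rfl
    · rw [hev w (hw'.1 w hm), hrel w hm]; rfl
    · apply Subgroup.map_injective R.subtype_injective
      rw [MonoidHom.map_closure, ← MonoidHom.range_eq_map, Subgroup.range_subtype]
      show Subgroup.closure _ = Subgroup.closure _
      congr 1
      ext x
      simp only [Set.mem_image, Set.mem_setOf_eq, List.mem_map]
      constructor
      · rintro ⟨_, ⟨g, hg, rfl⟩, rfl⟩
        exact ⟨[σ.getD g 0], ⟨_, hmem g hg, rfl⟩, by simp [eval, hf' g hg]⟩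
      · rintro ⟨_, ⟨b, hb, rfl⟩, rfl⟩
        obtain ⟨j, hj, rfl⟩ := List.getElem_of_mem hb
        exact ⟨f' j, ⟨j, hk ▸ hj, rfl⟩, by simp [eval, hf' j (hk ▸ hj), hj]⟩
  obtain ⟨q, hq⟩ := K.exists_surjective M'
  have htop : wordSubgroup f' C.subs = ⊤ := by
    rw [eq_top_iff]
    intro y _
    obtain ⟨i, hi⟩ := hq (QuotientGroup.mk y)
    obtain ⟨j, hj⟩ := hq (QuotientGroup.mk 1)
    have : i = j := Fin.ext (by have := i.2; have := j.2; omega)
    rw [this, hj, QuotientGroup.eq] at hi
    simpa using hi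
  have hle : wordSubgroup f' C.subs ≤ S.comap R.subtype := by
    rw [wordSubgroup, Subgroup.closure_le]
    rintro _ ⟨w, hm, rfl⟩
    show ((eval f' w : R) : T) ∈ S
    rw [hev w (hw'.2 w hm)]
    exact hS w hm
  exact (htop ▸ hle) (Subgroup.mem_top (⟨_, D.mem_gen ha⟩ : R))

end Cfsg.Agent.Lib.Y555
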