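import Mathlib
import Cfsg.Agent.Lib.Y555.Basic
import Cfsg.Agent.Lib.CosetTable.Simple
import Cfsg.Agent.Lib.CosetTable.Y555D5.Cover
import Cfsg.Agent.Lib.CosetTable.Y555E6.Cover
import Cfsg.Agent.Lib.CosetTable.Y555A222.Cover
import Cfsg.Agent.Lib.CosetTable.Y555A322.Checked
import Cfsg.Agent.Lib.CosetTable.Y555Levels.OK

/-!
The group of the diagram with arms 3, 2, 2: the E₇ word of the long arm.

Nodes of the small diagram: `0` centre, `1 2 3` the long arm, `4 5` and `6 7` the others.
-/

namespace Cfsg.Agent.Lib.Y555

open Cfsg.Agent.Lib.CosetTable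

/-- the presentation of the diagram with arms 3, 2, 2 -/
def presA : Pres (Fin 8) where
  k := 8
  gen n := Fin.ofNat 8 n
  idx x := x.val
  edges := [(0, 3, 1), (1, 3, 2), (2, 3, 3), (0, 3, 4), (4, 3, 5), (0, 3, 6), (6, 3, 7)]
  extraE := [.pow (.mul (.mul (.mul (.mul (.mul (.mul (.mul (.mul (.of 0) (.of 1)) (.of 2)) (.of 0))
    (.of 4)) (.of 5)) (.of 0)) (.of 6)) (.of 7)) 10]
  subsE := [.of 0, .of 1, .of 2, .of 4, .of 5, .of 6, .of 7]

/-- its relators -/
def extraA : List (FreeGroup (Fin 8)) := presA.extraE.map (WExp.free presA.gen)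

theorem presA_good : presA.Good where
  gen_idx x := by fin_cases x <;> rfl
  idx_lt x := x.isLt
  idx_gen := by decide
  mem_nodes x := by fin_cases x <;> decide

/-- the nodes of the small diagram inside the large one -/
def sigA : List ℕ := [0, 1, 2, 3, 6, 7, 11, 12]

/-- six ways of writing the central word, in the small numbering -/
def centralWords : List (List ℕ) :=
  [[0, 1, 4, 6, 2, 5, 3], [3, 5, 2, 6, 4, 1, 0], [0, 1, 6, 4, 2, 7, 3], [3, 7, 2, 4, 6, 1, 0],
    [3, 2, 1, 0, 4, 5, 6], [6, 5, 4, 0, 1, 2, 3]].map fun w => (List.replicate 9 w).flatten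

/-- the first of the words -/
def baseWord : List ℕ := (List.replicate 9 [0, 1, 4, 6, 2, 5, 3]).flatten

/-- words to be checked trivial -/
def trivialWords : List (List ℕ) :=
  (centralWords.map fun u => u ++ baseWord) ++
    (List.range 8).map fun g => [g] ++ baseWord ++ [g] ++ baseWord

theorem fix_trivial : Below (Y555A322.tab.fixOK trivialWords) 728 :=
  ((((((Below.zero _).step (b := 128)
      (show rangeAll (Y555A322.tab.fixOK trivialWords) 128 0 = true by decide +kernel) rfl).step
      (b := 256) (show rangeAll (Y555A322.tab.fixOK trivialWords) 128 128 = true by decide +kernel)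
      rfl).step (b := 384)
      (show rangeAll (Y555A322.tab.fixOK trivialWords) 128 256 = true by decide +kernel) rfl).step
      (b := 512) (show rangeAll (Y555A322.tab.fixOK trivialWords) 128 384 = true by decide +kernel)
      rfl).step (b := 640)
      (show rangeAll (Y555A322.tab.fixOK trivialWords) 128 512 = true by decide +kernel) rfl).step
      (b := 728) (show rangeAll (Y555A322.tab.fixOK trivialWords) 88 640 = true by decide +kernel)
      rfl

theorem rels_eqA : Y555A322.cert.rels = presA.relWords := by decide +kernel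

theorem modelA : Model (presA.gens extraA) Y555A322.cert :=
  Pres.model presA_good rfl rfl rels_eqA Y555A322.words_ok

theorem order_leA : Finite (presA.Grp extraA) ∧ Nat.card (presA.Grp extraA) ≤ 9170703360 := by
  have M := modelA
  have h0 := orderLE_step M [0, 1, 2, 4, 6] (by decide +kernel) Y555D5.cover (orderLE_nil _)
  have h1 := orderLE_step M [0, 1, 2, 4, 5, 6] (by decide +kernel) Y555E6.cover h0
  have h2 := orderLE_step M [0, 1, 2, 4, 5, 6, 7] (by decide +kernel) Y555A222.cover h1
  have h3 := orderLE_step M (List.range 8) (by decide +kernel) Y555A322.checked.toCover h2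
  exact finite_card_top M h3

theorem trivialWords_one : ∀ w ∈ trivialWords, eval (presA.gens extraA) w = 1 := by
  obtain ⟨φ, hφ⟩ := Pres.exists_action (extra := extraA) presA_good rfl rfl rels_eqA
    Y555A322.words_ok Y555A322.checked
  obtain ⟨-, hinj⟩ := Y555A322.checked.natCard_eq modelA φ hφ order_leA Y555Levels.levels
    Y555Levels.levels_ok Y555Levels.levels_card
  intro w hw
  have hl : ∀ a ∈ w, a < Y555A322.cert.k := by
    have h : ∀ w ∈ trivialWords, ∀ a ∈ w, a < Y555A322.cert.k := by decide +kernel
    exact h w hw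
  apply hinj
  rw [map_one, Checked.map_eval Y555A322.checked modelA φ hφ hl]
  ext i
  rw [Y555A322.checked.eval_perm hl, Equiv.Perm.one_apply]
  exact beq_iff.mp (allL_spec (fix_trivial i i.2) w hw)

variable {T : Type*} [Group T]

/-- the central word in the large numbering -/
def wordW : List ℕ := baseWord.map fun a => sigA.getD a 0

/-- the element of the E₇ subdiagram with long first arm -/
abbrev Data.wEl (D : Data T) : T := eval D.f wordW

theorem Data.trivial_image (D : Data T) :
    ∀ w ∈ trivialWords, eval D.f (w.map fun a => sigA.getD a 0) = 1 := by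
  intro w hw
  obtain ⟨ψ, hψ⟩ := Pres.exists_hom (extra := extraA) presA_good rfl
    (fun n => D.f (sigA.getD n 0))
    (fun n hn => D.invol (by
      have h : ∀ n, n < 8 → sigA.getD n 0 < 16 := by decide
      exact h n hn))
    (by decide +kernel)
    (fun v hv => by
      have h : ∀ v ∈ presA.relWords, v.map (fun a => sigA.getD a 0) ∈ relW := by decide +kernel
      rw [eval_map]
      exact D.rel _ (h v hv))
  have hl : ∀ v ∈ trivialWords, ∀ a ∈ v, a < presA.k := by decide +kernel
  have key : ∀ v : List ℕ, (∀ a ∈ v, a < presA.k) →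
      ψ (eval (presA.gens extraA) v) = eval D.f (v.map fun a => sigA.getD a 0) := by
    intro v
    induction v with
    | nil => intro _; simp [eval]
    | cons a v ih =>
      intro h
      simp only [eval, List.map_cons, map_mul, ih (fun b hb => h b (List.mem_cons_of_mem _ hb)),
        hψ a (h a (by simp))]
  rw [← key w (hl w hw), trivialWords_one w hw, map_one]

theorem Data.word_lt (D : Data T) : ∀ a ∈ wordW, a < 16 := by decide +kernel

theorem Data.wEl_sq (D : Data T) : D.wEl * D.wEl = 1 := by
  have h := D.trivial_image (baseWord ++ baseWord) (by decide +kernel)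
  rw [List.map_append, eval_append] at h
  exact h

/-- every way of writing the word gives the same element -/
theorem Data.eval_central (D : Data T) {u : List ℕ}
    (hu : u ∈ centralWords.map (List.map fun a => sigA.getD a 0)) : eval D.f u = D.wEl := by
  obtain ⟨v, hv, rfl⟩ := List.mem_map.mp hu
  have h := D.trivial_image (v ++ baseWord) (List.mem_append_left _ (List.mem_map_of_mem hv))
  rw [List.map_append, eval_append] at h
  have e := inv_eq_of_mul_eq_one_right h
  rw [← e]
  exact inv_eq_of_mul_eq_one_right D.wEl_sq

theorem Data.wEl_comm (D : Data T) {a : ℕ} (ha : a ∈ sigA) : Commute D.wEl (D.f a) := by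
  obtain ⟨g, hg, rfl⟩ := List.getElem_of_mem ha
  have hg' : g < 8 := hg
  have h := D.trivial_image ([g] ++ baseWord ++ [g] ++ baseWord)
    (List.mem_append_right _ (List.mem_map.mpr ⟨g, List.mem_range.mpr hg', rfl⟩))
  simp only [List.map_append, eval_append, List.map_cons, List.map_nil, eval, one_mul] at h
  rw [List.getD_eq_getElem _ _ hg] at h
  have hi : D.f sigA[g] * D.f sigA[g] = 1 := D.invol (by
    have : ∀ b ∈ sigA, b < 16 := by decide
    exact this _ (List.getElem_mem _))
  have e1 : (D.wEl * D.f sigA[g])⁻¹ = D.wEl * D.f sigA[g] :=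
    inv_eq_of_mul_eq_one_right (by rw [← h]; simp only [mul_assoc]; rfl)
  rw [mul_inv_rev, inv_eq_of_mul_eq_one_right hi, inv_eq_of_mul_eq_one_right D.wEl_sq] at e1
  exact e1.symm

theorem Data.par_wEl (D : Data T) : D.par D.wEl = Multiplicative.ofAdd 1 := by
  rw [Data.wEl, D.par_eval _ D.word_lt]
  decide +kernel

end Cfsg.Agent.Lib.Y555
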