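import Mathlib
import Cfsg.Agent.Lib.Y555.Arm
import Cfsg.Agent.Lib.CosetTable.Y555A532.Cover
import Cfsg.Agent.S1688
import Cfsg.Agent.S1689
import Cfsg.Agent.S1697

/-!
The end node of the first arm is the central element of the E₇ subdiagram.

The nodes of a diagram with arms 5, 2, 3 generate the same group as those with arms 4, 2, 3,
and this group modulo the central element of a second E₇ subdiagram is an image of Fi₂₃.
-/

namespace Cfsg.Agent.Lib.Y555

open Cfsg.Agent.Lib.CosetTable

variable {T : Type*} [Group T]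

/-- the nodes of the diagram with arms 4, 2, 3 -/
def sigM : List ℕ := [0, 1, 2, 3, 4, 6, 7, 11, 12, 13]

/-- the nodes of the diagram with arms 5, 2, 3 -/
def sigC : List ℕ := [0, 1, 2, 3, 4, 5, 6, 7, 11, 12, 13]

/-- the nodes corresponding to the generators of Fi₂₃ -/
def sigF : List ℕ := [13, 12, 11, 0, 1, 2, 3, 4, 6, 7]

/-- the second central element -/
abbrev Data.vEl (D : Data T) : T := D.shift.shift.wEl

theorem Data.eval_shift2 (D : Data T) (u : List ℕ) :
    eval D.shift.shift.f u = eval D.f ((u.map tau).map tau) := by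
  show eval (fun n => (fun m => D.f (tau m)) (tau n)) u = _
  rw [eval_map tau u (f := fun m => D.f (tau m)), eval_map tau _ (f := D.f)]

/-- the second word, in any of its forms -/
theorem Data.eval_vEl (D : Data T) {u : List ℕ}
    (hu : u ∈ centralWords.map (fun v => ((v.map fun a => sigA.getD a 0).map tau).map tau)) :
    eval D.f u = D.vEl := by
  obtain ⟨v, hv, rfl⟩ := List.mem_map.mp hu
  rw [← D.eval_shift2]
  exact D.shift.shift.eval_central (List.mem_map_of_mem hv)

theorem Data.vEl_comm (D : Data T) {a : ℕ} (ha : a ∈ sigC) : Commute D.vEl (D.f a) := by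
  have key : ∀ b ∈ sigC, b ∈ (sigA.map tau).map tau ∨
      ∃ v ∈ centralWords.map (fun v => ((v.map fun c => sigA.getD c 0).map tau).map tau),
        b < 16 ∧ v.all (fun c => decide (c < 16) && decide ([b, c, b, c] ∈ relW)) = true := by
    decide +kernel
  rcases key a ha with h | ⟨v, hv, hlt, hall⟩
  · simp only [List.map_map, List.mem_map] at h
    obtain ⟨b, hb, rfl⟩ := h
    exact D.shift.shift.wEl_comm hb
  · rw [← D.eval_vEl hv]
    exact D.comm_word hlt hall

/-- the first word commutes with the far node of the third arm -/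
theorem Data.wEl_comm_far (D : Data T) : Commute D.wEl (D.f 13) :=
  D.comm_word (by norm_num) (by decide +kernel)

theorem Data.gen_last (D : Data T) : D.f 5 ∈ D.gen sigM := by
  refine D.mem_of_collapse (C := Y555A532.cert) (A := Y555A532.tab) sigC (by decide +kernel)
    Y555A532.words_ok (by decide +kernel) Y555A532.cover rfl ?_ ?_ (by decide)
  · have key : ∀ w ∈ Y555A532.cert.rels, (w.map fun a => sigC.getD a 0) ∈ relW ∨
        (w.map fun a => sigC.getD a 0) =
          wordW ++ ((List.replicate 9 [0, 1, 6, 4, 2, 7, 3]).flatten.map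
            fun a => sigA.getD a 0).reverse ∨
        (w.map fun a => sigC.getD a 0) = wordW ++ [13] ++ wordW.reverse ++ [13] := by
      decide +kernel
    have hr : eval D.f wordW.reverse = D.wEl := by
      rw [D.eval_reverse' _ D.word_lt]
      exact inv_eq_of_mul_eq_one_right D.wEl_sq
    intro w hw
    rcases key w hw with h | h | h
    · exact D.rel _ h
    · rw [h, eval_append, D.eval_central (by decide +kernel)]
      exact D.wEl_sq
    · rw [h]
      simp only [eval_append, eval, one_mul, hr]
      show D.f 13 * (D.wEl * (D.f 13 * D.wEl)) = 1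
      rw [← mul_assoc D.wEl, D.wEl_comm_far.eq, mul_assoc (D.f 13) D.wEl, D.wEl_sq, mul_one,
        D.invol (show 13 < 16 by norm_num)]
  · have key : ∀ w ∈ Y555A532.cert.subs, ∃ a ∈ sigM, (w.map fun b => sigC.getD b 0) = [a] := by
      decide +kernel
    intro w hw
    obtain ⟨a, ha, e⟩ := key w hw
    rw [e]
    simpa [eval] using D.mem_gen ha

theorem Data.vEl_mem (D : Data T) : D.vEl ∈ D.gen sigM := by
  have h : ((List.replicate 9 [13, 12, 11, 0, 1, 2, 6]).flatten) ∈
      centralWords.map (fun v => ((v.map fun a => sigA.getD a 0).map tau).map tau) ∧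
      ∀ a ∈ (List.replicate 9 [13, 12, 11, 0, 1, 2, 6]).flatten, a ∈ sigM := by decide +kernel
  rw [← D.eval_vEl h.1]
  exact eval_mem _ _ fun a ha => D.mem_gen (h.2 a ha)

theorem Data.wEl_mem (D : Data T) : D.wEl ∈ D.gen sigM := by
  have h : ∀ a ∈ wordW, a ∈ sigM := by decide +kernel
  exact eval_mem _ _ fun a ha => D.mem_gen (h a ha)

/-- the word of Fi₂₃ representing the first central element -/
def wordF : List ℕ := (List.replicate 9 [3, 4, 2, 8, 5, 1, 6]).flatten

theorem center_fi23 {y : Cfsg.Spor.Fi23} (hy : ∀ k ∈ [0, 1, 2, 3, 4, 5, 6, 8, 9],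
    Commute y (S1697.gn k)) :
    y ∈ (Subgroup.center S1688.subH).map S1688.subH.subtype := by
  have hsub : S1688.subH = wordSubgroup S1697.gn Fi23m.cert.subs :=
    Pres.subgrp_eq S1689.pres_good S1689.certified.k_eq S1689.certified.subs_eq Fi23m.words_ok
  have hcom : ∀ x ∈ S1688.subH, Commute y x := by
    intro x hx
    rw [hsub] at hx
    induction hx using Subgroup.closure_induction with
    | mem z hz =>
      obtain ⟨w, hw, rfl⟩ := hz
      have h : ∀ w ∈ Fi23m.cert.subs, ∀ a ∈ w, a ∈ [0, 1, 2, 3, 4, 5, 6, 8, 9] := by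
        decide +kernel
      exact commute_eval fun a ha => hy a (h w hw a ha)
    | one => exact Commute.one_right y
    | mul u v _ _ hu hv => exact hu.mul_right hv
    | inv u _ hu => exact hu.inv_right
  by_cases hm : y ∈ S1688.subH
  · refine ⟨⟨y, hm⟩, Subgroup.mem_center_iff.mpr fun x => Subtype.ext ?_, rfl⟩
    exact (hcom x x.2).eq.symm
  · exfalso
    have D := S1689.certified
    obtain ⟨φ, hφ⟩ :=
      Pres.exists_action D.good D.extra_eq D.k_eq D.rels_eq D.words D.checked
    have htop := Checked.sup_zpowers_eq_top Fi23m.checked S1697.model_act φ hφ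
      [(Fi23m.orb1, Fi23Simple.rep1), (Fi23m.orb2, Fi23Simple.rep2)]
      (by
        intro q hq
        simp only [List.mem_cons, List.not_mem_nil, or_false] at hq
        rcases hq with rfl | rfl
        · exact ⟨by decide, Fi23m.orb1_ok, by decide +kernel, by decide +kernel,
            Fi23SimpleMax1.cert, Fi23SimpleMax1.tab, _,
            ⟨rfl, by decide +kernel, by decide +kernel, Fi23SimpleMax1.words_ok,
              Fi23SimpleMax1.cover, rfl⟩⟩
        · exact ⟨by decide, Fi23m.orb2_ok, by decide +kernel, by decide +kernel,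
            Fi23SimpleMax2.cert, Fi23SimpleMax2.tab, _,
            ⟨rfl, by decide +kernel, by decide +kernel, Fi23SimpleMax2.words_ok,
              Fi23SimpleMax2.cover, rfl⟩⟩)
      Fi23Simple.covered_ok y (hsub ▸ hm)
    rw [← hsub] at htop
    haveI : IsSimpleGroup Cfsg.Spor.Fi23 := S1697.result.1
    have hn : S1688.subH.Normal := by
      rw [← Subgroup.normalizer_eq_top_iff, eq_top_iff, ← htop]
      refine sup_le Subgroup.le_normalizer (Subgroup.zpowers_le.mpr ?_)
      rw [Subgroup.mem_normalizer_iff]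
      intro x
      constructor
      · intro hx
        rw [(hcom x hx).eq, mul_inv_cancel_right]
        exact hx
      · intro hx
        have e := (hcom _ hx).eq
        have : y * x * y⁻¹ = x := by
          have := mul_left_cancel (a := y) (b := y * x * y⁻¹) (c := x) (by
            rw [e]; simp [mul_assoc])
          exact this
        rwa [this] at hx
    rcases hn.eq_bot_or_eq_top with h | h
    · have := S1688.card_subH
      rw [h, Subgroup.card_bot] at this
      norm_num at this
    · exact hm (h ▸ Subgroup.mem_top y)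

theorem eq_of_card_two {Z : Type*} [One Z] (h : Nat.card Z = 2) {a b : Z} (ha : a ≠ 1)
    (hb : b ≠ 1) : a = b := by
  obtain ⟨u, v, huv, hset⟩ := Nat.card_eq_two_iff.mp h
  rcases (hset ▸ Set.mem_univ a : a ∈ ({u, v} : Set Z)) with ha' | ha' <;>
    rcases (hset ▸ Set.mem_univ b : b ∈ ({u, v} : Set Z)) with hb' | hb' <;>
    rcases (hset ▸ Set.mem_univ (1 : Z) : (1 : Z) ∈ ({u, v} : Set Z)) with h1 | h1 <;>
    simp_all

theorem Data.last_eq_of_all (D : Data T) (h : ∀ n, n < 16 → D.f n = D.f 0) : D.f 5 = D.wEl := by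
  rw [Data.wEl, D.eval_of_all_eq h _ D.word_lt, if_neg (by decide +kernel), h 5 (by norm_num)]

/-- elements of `⟨v⟩` of odd parity -/
theorem Data.odd_mem_zpowers (D : Data T) {x : T} (hx : x ∈ Subgroup.zpowers D.vEl)
    (hp : D.par x = Multiplicative.ofAdd 1) : x = D.vEl := by
  obtain ⟨n, rfl⟩ := Subgroup.mem_zpowers_iff.mp hx
  have h2 : D.vEl ^ (2 : ℤ) = 1 := by
    rw [show (2 : ℤ) = ((2 : ℕ) : ℤ) from rfl, zpow_natCast, pow_two]
    exact D.shift.shift.wEl_sq
  rcases Int.emod_two_eq_zero_or_one n with h | h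
  · exfalso
    obtain ⟨m, rfl⟩ : (2 : ℤ) ∣ n := Int.dvd_of_emod_eq_zero h
    rw [zpow_mul, h2, one_zpow, map_one] at hp
    exact absurd hp (by decide)
  · obtain ⟨m, rfl⟩ : ∃ m, n = 2 * m + 1 := ⟨n / 2, by omega⟩
    rw [zpow_add, zpow_mul, h2, one_zpow, one_mul, zpow_one]

/-- the end node of the first arm -/
theorem Data.last_eq (D : Data T) : D.f 5 = D.wEl := by
  have sigM_lt : ∀ a ∈ sigM, a < 16 := by decide
  have sub : ∀ a ∈ sigM, a ∈ sigC := by decide
  let S := D.gen sigM
  let v : S := ⟨D.vEl, D.vEl_mem⟩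
  let N : Subgroup S := Subgroup.zpowers v
  have hcen : ∀ x : S, Commute v x := fun x =>
    Subtype.ext ((D.commute_gen (fun a ha => D.vEl_comm (sub a ha)) x.2).eq)
  haveI : N.Normal := ⟨fun x hx y => by
    obtain ⟨n, rfl⟩ := Subgroup.mem_zpowers_iff.mp hx
    rw [← ((hcen y).zpow_left n).eq, mul_inv_cancel_right]
    exact Subgroup.zpow_mem_zpowers v n⟩
  let π₀ : S →* S ⧸ N := QuotientGroup.mk' N
  have hF : ∀ n, n < 10 → sigF.getD n 0 ∈ sigM := by decide
  let s : ℕ → S := fun a => if h : a ∈ sigM then ⟨D.f a, D.mem_gen h⟩ else 1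
  have hs : ∀ a ∈ sigM, (s a : T) = D.f a := fun a ha => by simp [s, ha]
  let p : ℕ → S ⧸ N := fun n => π₀ (s (sigF.getD n 0))
  have hev : ∀ w : List ℕ, (∀ a ∈ w, a < 10) →
      ∃ x : S, (x : T) = eval D.f (w.map fun a => sigF.getD a 0) ∧ eval p w = π₀ x := by
    intro w
    induction w with
    | nil => intro _; exact ⟨1, by simp [eval], by simp [eval]⟩
    | cons a w ih =>
      intro hl
      obtain ⟨x, hx, e⟩ := ih fun b hb => hl b (List.mem_cons_of_mem _ hb)
      exact ⟨x * s (sigF.getD a 0),
        by simp only [eval, List.map_cons, Subgroup.coe_mul, hx, hs _ (hF a (hl a (by simp)))],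
        by simp only [eval, map_mul, e, p]⟩
  obtain ⟨π, hπ⟩ : ∃ π : Cfsg.Spor.Fi23 →* S ⧸ N, ∀ g, g < 10 → π (S1697.gn g) = p g :=
    Pres.exists_hom (extra := Cfsg.Spor.Fi23.extra) S1689.pres_good
    S1689.certified.extra_eq p
    (fun n hn => by
      change n < 10 at hn
      have : s (sigF.getD n 0) * s (sigF.getD n 0) = 1 := Subtype.ext (by
        rw [Subgroup.coe_mul, hs _ (hF n hn), D.invol (sigM_lt _ (hF n hn))]; rfl)
      show π₀ _ * π₀ _ = 1
      rw [← map_mul, this, map_one])
    (by decide +kernel)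
    (by
      intro w hw
      have hlt : ∀ w ∈ S1689.pres.relWords, ∀ a ∈ w, a < 10 := by decide +kernel
      have key : ∀ w ∈ S1689.pres.relWords, (w.map fun a => sigF.getD a 0) ∈ relW ∨
          (w.map fun a => sigF.getD a 0).reverse ∈ relW ∨
          (w.map fun a => sigF.getD a 0) ∈
            centralWords.map (fun v => ((v.map fun c => sigA.getD c 0).map tau).map tau) := by
        decide +kernel
      obtain ⟨x, hx, e⟩ := hev w (hlt w hw)
      rw [e]
      rcases key w hw with h | h | h
      · rw [show x = 1 from Subtype.ext (by rw [hx, D.rel _ h]; rfl), map_one]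
      · have hall : ∀ a ∈ (w.map fun a => sigF.getD a 0), a < 16 := by
          intro a ha
          obtain ⟨b, hb, rfl⟩ := List.mem_map.mp ha
          exact sigM_lt _ (hF b (hlt w hw b hb))
        have := D.rel _ h
        rw [D.eval_reverse' _ hall, inv_eq_one] at this
        rw [show x = 1 from Subtype.ext (by rw [hx, this]; rfl), map_one]
      · rw [show x = v from Subtype.ext (by rw [hx, D.eval_vEl h])]
        exact (QuotientGroup.eq_one_iff v).mpr (Subgroup.mem_zpowers v))
  haveI : IsSimpleGroup Cfsg.Spor.Fi23 := S1697.result.1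
  have hidx : ∀ a ∈ sigM, ∃ n < 10, sigF.getD n 0 = a := by decide
  have hgen : ∀ a ∈ sigM, π₀ (s a) ∈ π.range := by
    intro a ha
    obtain ⟨n, hn, rfl⟩ := hidx a ha
    exact ⟨_, hπ n hn⟩
  have hsurj : Function.Surjective π := by
    intro q
    induction q using QuotientGroup.induction_on with
    | _ x =>
      have : ∀ y (hy : y ∈ D.gen sigM), π₀ ⟨y, hy⟩ ∈ π.range := by
        intro y hy
        induction hy using Subgroup.closure_induction with
        | mem z hz =>
          obtain ⟨w, hw, e⟩ := id hz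
          subst e
          obtain ⟨a, ha, rfl⟩ := List.mem_map.mp hw
          convert hgen a ha using 2
          apply Subtype.ext
          simp [eval, hs a ha]
        | one => exact one_mem π.range
        | mul u w hu hw iu iw =>
          have : (⟨u * w, mul_mem hu hw⟩ : S) = ⟨u, hu⟩ * ⟨w, hw⟩ := rfl
          rw [this, map_mul]
          exact mul_mem iu iw
        | inv u hu iu =>
          have : (⟨u⁻¹, inv_mem hu⟩ : S) = (⟨u, hu⟩ : S)⁻¹ := rfl
          rw [this, map_inv]
          exact inv_mem iu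
      exact this x.1 x.2
  let v' := D.vEl
  have hmemN : ∀ {x : S}, π₀ x = 1 → (x : T) ∈ Subgroup.zpowers v' := by
    intro x hx
    obtain ⟨n, rfl⟩ := Subgroup.mem_zpowers_iff.mp ((QuotientGroup.eq_one_iff x).mp hx)
    exact Subgroup.mem_zpowers_iff.mpr ⟨n, by simp [v, v']⟩
  rcases π.normal_ker.eq_bot_or_eq_top with hk | hk
  swap
  · -- the quotient is trivial, so the first two nodes commute
    refine D.last_eq_of_all (D.collapse (Or.inl ?_))
    have hone : ∀ a ∈ sigM, (s a : T) ∈ Subgroup.zpowers v' := by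
      intro a ha
      obtain ⟨y, hy⟩ := hgen a ha
      refine hmemN ?_
      rw [← hy]
      exact (MonoidHom.mem_ker).mp (hk ▸ Subgroup.mem_top y)
    have h0 := hone 0 (by decide)
    have h1 := hone 1 (by decide)
    rw [hs 0 (by decide)] at h0
    rw [hs 1 (by decide)] at h1
    obtain ⟨m, hm⟩ := Subgroup.mem_zpowers_iff.mp h0
    obtain ⟨n, hn⟩ := Subgroup.mem_zpowers_iff.mp h1
    rw [← hm, ← hn]
    exact Commute.zpow_zpow_self _ m n
  · have hinj : Function.Injective π := (MonoidHom.ker_eq_bot_iff π).mp hk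
    have hsubk : ∀ k ∈ [0, 1, 2, 3, 4, 5, 6, 8, 9], k < 10 ∧ sigF.getD k 0 ≠ 4 := by decide
    -- preimages of elements commuting with all nodes but the fifth lie in the centre
    have hcent : ∀ (x : S) (y : Cfsg.Spor.Fi23), π y = π₀ x →
        (∀ a ∈ sigM, a ≠ 4 → Commute (x : T) (D.f a)) →
        y ∈ (Subgroup.center S1688.subH).map S1688.subH.subtype := by
      intro x y hy hx
      refine center_fi23 fun k hk' => hinj ?_
      obtain ⟨hk10, hk4⟩ := hsubk k hk'
      have hc : x * s (sigF.getD k 0) = s (sigF.getD k 0) * x := Subtype.ext (by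
        rw [Subgroup.coe_mul, Subgroup.coe_mul, hs _ (hF k hk10), (hx _ (hF k hk10) hk4).eq])
      rw [map_mul, map_mul, hy, show π (S1697.gn k) = π₀ (s (sigF.getD k 0)) from hπ k hk10,
        ← map_mul, ← map_mul, hc]
    obtain ⟨yf, hyf⟩ := hsurj (π₀ ⟨D.f 5, D.gen_last⟩)
    have hyw : π (eval S1697.gn wordF) = π₀ ⟨D.wEl, D.wEl_mem⟩ := by
      obtain ⟨x, hx, e⟩ := hev wordF (by decide +kernel)
      have hmap : ∀ w : List ℕ, (∀ a ∈ w, a < 10) → π (eval S1697.gn w) = eval p w := by
        intro w
        induction w with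
        | nil => intro _; simp [eval]
        | cons a w ih =>
          intro hl
          simp only [eval, map_mul, ih fun b hb => hl b (List.mem_cons_of_mem _ hb)]
          rw [show π (S1697.gn a) = p a from hπ a (hl a (by simp))]
      rw [hmap _ (by decide +kernel), e]
      congr 1
      apply Subtype.ext
      rw [hx]
      exact D.eval_central (by decide +kernel)
    have hfc : ∀ a ∈ sigM, a ≠ 4 → Commute (D.f 5) (D.f a) := by
      have h : ∀ a ∈ sigM, a ≠ 4 → [5, a, 5, a] ∈ relW := by decide +kernel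
      exact fun a ha h4 => D.comm_f (by norm_num) (sigM_lt a ha) (h a ha h4)
    have hwc : ∀ a ∈ sigM, a ≠ 4 → Commute D.wEl (D.f a) := by
      have h : ∀ a ∈ sigM, a ≠ 4 → a ∈ sigA ∨ a = 13 := by decide
      intro a ha h4
      rcases h a ha h4 with h' | rfl
      · exact D.wEl_comm h'
      · exact D.wEl_comm_far
    obtain ⟨zf, hzf, rfl⟩ := hcent _ yf hyf hfc
    obtain ⟨zw, hzw, ew⟩ := hcent _ _ hyw hwc
    have hne : eval S1697.gn wordF ≠ 1 := by
      intro h1
      have D' := S1689.certified
      obtain ⟨φ, hφ⟩ :=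
        Pres.exists_action D'.good D'.extra_eq D'.k_eq D'.rels_eq D'.words D'.checked
      have hl : ∀ a ∈ wordF, a < Fi23m.cert.k := by decide +kernel
      have e := Checked.map_eval Fi23m.checked S1697.model_act φ hφ hl
      have e' : eval Fi23m.checked.perm wordF = 1 := by
        rw [← e, h1]; exact map_one φ
      have hb : ∃ i ∈ List.range 64, Fi23m.tab.walk wordF i ≠ i ∧ i < Fi23m.tab.n := by
        decide +kernel
      obtain ⟨i, -, hi, hin⟩ := hb
      apply hi
      rw [← Fi23m.checked.eval_perm hl ⟨i, hin⟩, e', Equiv.Perm.one_apply]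
    have hparv : D.par D.vEl = Multiplicative.ofAdd 1 := D.shift.shift.par_wEl
    by_cases hf1 : zf = 1
    · -- the last node is the second central element, which commutes with the fourth one
      refine D.last_eq_of_all (D.collapse (Or.inr ?_))
      rw [hf1, map_one, map_one] at hyf
      have h5 : D.f 5 = D.vEl := D.odd_mem_zpowers (hmemN hyf.symm) (D.par_f 5 (by norm_num))
      rw [h5]
      exact D.vEl_comm (by decide)
    · have hw1 : zw ≠ 1 := by
        rintro rfl
        exact hne (ew.symm.trans (map_one _))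
      have heq : (⟨zf, hzf⟩ : Subgroup.center S1688.subH) = ⟨zw, hzw⟩ :=
        eq_of_card_two (by unfold S1688.subH Pres.subgrp; rw [S1689.gens_eq]; exact S1688.result.1)
          (fun h => hf1 (congrArg Subtype.val h)) (fun h => hw1 (congrArg Subtype.val h))
      have hz : zf = zw := congrArg Subtype.val heq
      rw [hz, ew, hyw] at hyf
      have h1 : π₀ (⟨D.wEl, D.wEl_mem⟩⁻¹ * ⟨D.f 5, D.gen_last⟩) = 1 := by
        rw [map_mul, map_inv, hyf, inv_mul_cancel]
      have hn := hmemN h1
      obtain ⟨n, hn'⟩ := Subgroup.mem_zpowers_iff.mp hn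
      have hp : D.par (v' ^ n) = 1 := by
        rw [hn']
        simp only [Subgroup.coe_mul, Subgroup.coe_inv, map_mul, map_inv, D.par_wEl,
          D.par_f 5 (by norm_num)]
        exact inv_mul_cancel _
      rw [map_zpow, hparv] at hp
      have h2 : (2 : ℤ) ∣ n := by
        rw [← ofAdd_zsmul, ← ofAdd_zero, (Multiplicative.ofAdd).injective.eq_iff, zsmul_one,
          ZMod.intCast_zmod_eq_zero_iff_dvd] at hp
        exact_mod_cast hp
      obtain ⟨m, rfl⟩ := h2
      have hv2 : v' ^ (2 : ℤ) = 1 := by
        rw [show (2 : ℤ) = ((2 : ℕ) : ℤ) from rfl, zpow_natCast, pow_two]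
        exact D.shift.shift.wEl_sq
      rw [zpow_mul, hv2, one_zpow] at hn'
      exact (inv_mul_eq_one.mp hn'.symm).symm

end Cfsg.Agent.Lib.Y555
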